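import Mathlib

set_option autoImplicit false
set_option linter.style.haveILetI false
set_option linter.unusedSectionVars false
universe u v w

namespace Groth.Agent.LubinTate8

open MvPowerSeries Finsupp

variable {O : Type u} [CommRing O] {σ : Type v} [Finite σ] {τ : Type w} [Finite τ]

/-- Coordinatewise substitution by `π T + T ^ q`. -/
noncomputable def fs (π : O) (q : ℕ) (i : σ) : MvPowerSeries σ O := π • X i + X i ^ q

/-- Solutions of `G(f(x)) = π G(x) + c G(x) ^ q`. -/
def Sol (π : O) (q : ℕ) (c : O) (G : MvPowerSeries σ O) : Prop :=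
  constantCoeff G = 0 ∧ MvPowerSeries.subst (fs π q) G = π • G + c • G ^ q

/-- The defect. -/
noncomputable def defect (π : O) (q : ℕ) (c : O) (G : MvPowerSeries σ O) : MvPowerSeries σ O :=
  MvPowerSeries.subst (fs π q) G - π • G - c • G ^ q

variable {π : O} {q : ℕ} {c : O}

theorem constantCoeff_fs (hq : q ≠ 0) (i : σ) : constantCoeff (fs π q i) = 0 := by
  simp [fs, smul_eq_C_mul, zero_pow hq]

theorem hasSubst_fs (hq : q ≠ 0) : HasSubst (fs π q : σ → MvPowerSeries σ O) :=
  hasSubst_of_constantCoeff_zero (constantCoeff_fs hq)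

theorem fs_eq (hq : q ≠ 0) (i : σ) : fs π q i = X i * (C π + X i ^ (q - 1)) := by
  obtain ⟨p, rfl⟩ := Nat.exists_eq_succ_of_ne_zero hq
  simp [fs, smul_eq_C_mul, pow_succ]; ring

/-- Lowest order coefficients of `D(f(x))`. -/
theorem coeff_subst_fs (hq : 2 ≤ q) {D : MvPowerSeries σ O} {k : ℕ}
    (hD : ∀ d : σ →₀ ℕ, degree d < k → coeff d D = 0) (e : σ →₀ ℕ) (he : degree e ≤ k) :
    coeff e (MvPowerSeries.subst (fs π q) D) = π ^ degree e * coeff e D := by
  classical
  rw [coeff_subst (hasSubst_fs (by omega)), finsum_eq_single _ e]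
  · rw [smul_eq_mul, mul_comm (coeff e D)]
    congr 1
    rw [Finsupp.prod, Finset.prod_congr rfl (fun i _ => by rw [fs_eq (by omega), mul_pow]), Finset.prod_mul_distrib,
      show ∏ i ∈ e.support, (X i : MvPowerSeries σ O) ^ e i = monomial e 1 from
        (MvPowerSeries.monomial_one_eq e).symm,
      coeff_monomial_mul, if_pos le_rfl, one_mul, tsub_self, coeff_zero_eq_constantCoeff_apply, map_prod]
    simp only [map_pow, map_add, constantCoeff_C, constantCoeff_X, zero_pow (show q - 1 ≠ 0 by omega), add_zero]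
    rw [Finset.prod_pow_eq_pow_sum, Finsupp.degree_apply]
  · intro d hde
    by_cases hd : degree d < k
    · rw [hD d hd, zero_smul]
    rw [Finsupp.prod, Finset.prod_congr rfl (fun i _ => by rw [fs_eq (by omega), mul_pow]), Finset.prod_mul_distrib,
      show ∏ i ∈ d.support, (X i : MvPowerSeries σ O) ^ d i = monomial d 1 from
        (MvPowerSeries.monomial_one_eq d).symm,
      coeff_monomial_mul, if_neg, smul_zero]
    intro hle
    have h1 := (add_tsub_cancel_of_le hle).symm
    have h2 : degree e = degree d + degree (e - d) := by rw [← map_add, ← h1]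
    have h3 : degree (e - d) = 0 := by omega
    rw [(Finsupp.degree_eq_zero_iff _).mp h3, add_zero] at h1
    exact hde h1.symm

/-- Perturbing `G` at order `k` does not change `G ^ q` up to order `k`. -/
theorem coeff_add_pow (hq : 2 ≤ q) {G D : MvPowerSeries σ O} (hG : constantCoeff G = 0) {k : ℕ} (hk : 1 ≤ k)
    (hD : ∀ d : σ →₀ ℕ, degree d < k → coeff d D = 0) (e : σ →₀ ℕ) (he : degree e ≤ k) :
    coeff e ((G + D) ^ q) = coeff e (G ^ q) := by
  have hD0 : constantCoeff D = 0 := by
    rw [← coeff_zero_eq_constantCoeff_apply]; exact hD 0 (by rw [map_zero]; omega)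
  rw [← sub_eq_zero, ← map_sub, ← geom_sum₂_mul (G + D) G q, add_sub_cancel_left]
  refine coeff_of_lt_order (lt_of_lt_of_le ?_ le_order_mul)
  refine lt_of_lt_of_le ?_ (add_le_add ((one_le_order_iff_constCoeff_eq_zero).mpr ?_) (nat_le_order hD))
  · exact_mod_cast (by omega : degree e < 1 + k)
  · rw [map_sum]
    refine Finset.sum_eq_zero fun i hi => ?_
    rw [map_mul, map_pow, map_pow, map_add, hG, hD0, add_zero]
    rcases Nat.eq_zero_or_pos i with rfl | h0
    · rw [zero_pow (show q - 1 - 0 ≠ 0 by omega), mul_zero]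
    · rw [zero_pow h0.ne', zero_mul]

theorem defect_add (hq : 2 ≤ q) {G D : MvPowerSeries σ O} (hG : constantCoeff G = 0) {k : ℕ} (hk : 1 ≤ k)
    (hD : ∀ d : σ →₀ ℕ, degree d < k → coeff d D = 0) (e : σ →₀ ℕ) (he : degree e ≤ k) :
    coeff e (defect π q c (G + D)) = coeff e (defect π q c G) + (π ^ degree e - π) * coeff e D := by
  simp only [defect, MvPowerSeries.subst_add (hasSubst_fs (show q ≠ 0 by omega)), map_sub, map_add, map_smul,
    coeff_subst_fs hq hD e he, coeff_add_pow hq hG hk hD e he, smul_eq_mul]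
  ring

/-- The linear coefficient. -/
noncomputable def lin (G : MvPowerSeries σ O) (i : σ) : O := coeff (single i 1) G

omit [Finite σ] in
theorem eq_single_of_degree_one {e : σ →₀ ℕ} (he : degree e = 1) : ∃ i, e = single i 1 := by
  classical
  obtain ⟨i, hi⟩ : ∃ i, e i ≠ 0 := by
    by_contra h; push Not at h
    rw [show e = 0 from Finsupp.ext h, map_zero] at he; omega
  refine ⟨i, ?_⟩
  have hle : single i 1 ≤ e := by simp; omega
  have h1 := (add_tsub_cancel_of_le hle).symm
  have h2 : degree (single i 1 + (e - single i 1)) = 1 := by rw [← h1]; exact he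
  rw [map_add, degree_single] at h2
  rw [(Finsupp.degree_eq_zero_iff _).mp (by omega : degree (e - single i 1) = 0), add_zero] at h1
  exact h1

theorem unique [IsDomain O] (hq : 2 ≤ q) (hπ : ∀ d, 2 ≤ d → π ^ d - π ≠ 0) {G G' : MvPowerSeries σ O}
    (hG : Sol π q c G) (hG' : Sol π q c G') (hlin : ∀ i, lin G i = lin G' i) : G' = G := by
  have hdef : ∀ {H : MvPowerSeries σ O}, Sol π q c H → defect π q c H = 0 := fun {H} h => by
    rw [defect, h.2]; ring
  suffices ∀ (k : ℕ) (e : σ →₀ ℕ), degree e < k → coeff e (G' - G) = 0 from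
    sub_eq_zero.mp (MvPowerSeries.ext fun e => by simpa using this (degree e + 1) e (Nat.lt_succ_self _))
  intro k
  induction k with
  | zero => intro e he; omega
  | succ k ih =>
    intro e he
    by_cases hlt : degree e < k
    · exact ih e hlt
    rcases Nat.lt_or_ge k 2 with hk | hk
    · rcases Nat.eq_zero_or_pos (degree e) with h0 | hpos
      · rw [(Finsupp.degree_eq_zero_iff e).mp h0, coeff_zero_eq_constantCoeff_apply, map_sub, hG'.1, hG.1, sub_self]
      · obtain ⟨i, rfl⟩ := eq_single_of_degree_one (show degree e = 1 by omega)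
        rw [map_sub]; exact sub_eq_zero.mpr (hlin i).symm
    have h := defect_add (π := π) (c := c) hq hG.1 (k := k) (by omega) ih e (by omega)
    rw [add_sub_cancel, hdef hG', hdef hG, map_zero, zero_add] at h
    exact (mul_eq_zero.mp h.symm).resolve_left (hπ _ (by omega))

theorem exists_sol (hq : 2 ≤ q)
    (hdiv : ∀ (G : MvPowerSeries σ O), constantCoeff G = 0 → ∀ e : σ →₀ ℕ, 2 ≤ degree e →
      (π ^ degree e - π) ∣ coeff e (defect π q c G))
    (l : σ → O) : ∃ G : MvPowerSeries σ O, Sol π q c G ∧ ∀ i, lin G i = l i := by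
  classical
  haveI := Fintype.ofFinite σ
  have hstep : ∀ (N : ℕ) (G : MvPowerSeries σ O), 1 ≤ N → constantCoeff G = 0 →
      (∀ e, degree e ≤ N → coeff e (defect π q c G) = 0) →
      ∃ G' : MvPowerSeries σ O, constantCoeff G' = 0 ∧ (∀ e, degree e ≤ N → coeff e G' = coeff e G) ∧
        ∀ e, degree e ≤ N + 1 → coeff e (defect π q c G') = 0 := by
    intro N G hN hG hR
    have hd : ∀ e : σ →₀ ℕ, ∃ a, degree e = N + 1 → coeff e (defect π q c G) = (π ^ degree e - π) * a := fun e => by
      by_cases he : degree e = N + 1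
      · obtain ⟨a, ha⟩ := hdiv G hG e (by omega)
        exact ⟨a, fun _ => ha⟩
      · exact ⟨0, fun h => absurd h he⟩
    choose a ha using hd
    let D : MvPowerSeries σ O := fun e => if degree e = N + 1 then - a e else 0
    have hD : ∀ d : σ →₀ ℕ, degree d < N + 1 → coeff d D = 0 := fun d hd => if_neg (show ¬ degree d = N + 1 by omega)
    refine ⟨G + D, ?_, fun e he => by rw [map_add, hD e (by omega), add_zero], fun e he => ?_⟩
    · rw [map_add, hG, zero_add, ← coeff_zero_eq_constantCoeff_apply]; exact hD 0 (by simp)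
    · rw [defect_add hq hG (by omega) hD e he]
      rcases Nat.lt_or_ge (degree e) (N + 1) with h | h
      · rw [hR e (by omega), hD e h, mul_zero, add_zero]
      · have he' : degree e = N + 1 := by omega
        rw [show coeff e D = - a e from if_pos he', ha e he']; ring
  choose! step hstep0 hstep1 hstep2 using hstep
  let G₁ : MvPowerSeries σ O := ∑ i, monomial (single i 1) (l i)
  have hG₁lin : ∀ i, coeff (single i 1) G₁ = l i := fun i => by
    simp [G₁, map_sum, coeff_monomial, Finsupp.single_eq_single_iff]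
  have hG₁0 : constantCoeff G₁ = 0 := by
    rw [← coeff_zero_eq_constantCoeff_apply]
    simp [G₁, map_sum, coeff_monomial, eq_comm (a := (0 : σ →₀ ℕ))]
  have hdef0 : defect π q c (0 : MvPowerSeries σ O) = 0 := by
    rw [defect, ← coe_substAlgHom (R := O) (hasSubst_fs (π := π) (σ := σ) (show q ≠ 0 by omega)), map_zero,
      zero_pow (show q ≠ 0 by omega), smul_zero, smul_zero, sub_zero, sub_zero]
  have hR₁ : ∀ e, degree e ≤ 1 → coeff e (defect π q c G₁) = 0 := fun e he => by
    have hD : ∀ d : σ →₀ ℕ, degree d < 1 → coeff d G₁ = 0 := fun d hd => by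
      rw [(Finsupp.degree_eq_zero_iff d).mp (by omega), coeff_zero_eq_constantCoeff_apply, hG₁0]
    have h := defect_add (π := π) (c := c) hq (G := 0) (map_zero _) le_rfl hD e he
    rw [zero_add, hdef0, map_zero, zero_add] at h
    rw [h]
    rcases Nat.eq_zero_or_pos (degree e) with h0 | h0
    · rw [hD e (by omega), mul_zero]
    · rw [show degree e = 1 by omega, pow_one, sub_self, zero_mul]
  let seq : ℕ → MvPowerSeries σ O := fun n => Nat.rec G₁ (fun k G => step (k + 1) G) n
  have hseq : ∀ n, constantCoeff (seq n) = 0 ∧ ∀ e, degree e ≤ n + 1 → coeff e (defect π q c (seq n)) = 0 := by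
    intro n
    induction n with
    | zero => exact ⟨hG₁0, hR₁⟩
    | succ n ih => exact ⟨hstep0 (n + 1) _ (by omega) ih.1 ih.2, hstep2 (n + 1) _ (by omega) ih.1 ih.2⟩
  have hstab : ∀ m n, m ≤ n → ∀ e : σ →₀ ℕ, degree e ≤ m + 1 → coeff e (seq n) = coeff e (seq m) := by
    intro m n hmn e he
    induction n, hmn using Nat.le_induction with
    | base => rfl
    | succ n hmn ih => exact (hstep1 (n + 1) _ (by omega) (hseq n).1 (hseq n).2 e (by omega)).trans ih
  let G : MvPowerSeries σ O := fun e => coeff e (seq (degree e))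
  have hagree : ∀ n (e : σ →₀ ℕ), degree e ≤ n + 1 → coeff e G = coeff e (seq n) := fun n e he => by
    show coeff e (seq (degree e)) = _
    rcases le_total n (degree e) with h | h
    · exact hstab n _ h e he
    · exact (hstab _ n h e (Nat.le_succ _)).symm
  refine ⟨G, ⟨?_, ?_⟩, fun i => ?_⟩
  · rw [← coeff_zero_eq_constantCoeff_apply, hagree 0 0 (by simp)]; simpa using (hseq 0).1
  · have h0 : defect π q c G = 0 := MvPowerSeries.ext fun e => by
      have h := defect_add (π := π) (c := c) hq (hseq (degree e)).1 (k := degree e + 2) (by omega)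
        (D := G - seq (degree e)) (fun d hd => by rw [map_sub, hagree (degree e) d (by omega), sub_self]) e (by omega)
      rw [add_sub_cancel, (hseq (degree e)).2 e (by omega), zero_add, map_sub,
        hagree (degree e) e (by omega), sub_self, mul_zero] at h
      simpa using h
    rw [defect, sub_sub, sub_eq_zero] at h0
    exact h0
  · show coeff (single i 1) G = l i
    rw [hagree 0 _ (by simp)]; exact hG₁lin i

theorem sol_X (hq : q ≠ 0) (i : σ) : Sol π q (1 : O) (X i : MvPowerSeries σ O) :=
  ⟨constantCoeff_X i, by rw [subst_X (hasSubst_fs hq), one_smul]; rfl⟩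

theorem sol_subst (hq : q ≠ 0) {G : MvPowerSeries σ O} (hG : Sol π q c G) {a : σ → MvPowerSeries τ O}
    (ha : ∀ i, Sol π q (1 : O) (a i)) : Sol π q c (MvPowerSeries.subst a G) := by
  have hsa : HasSubst a := hasSubst_of_constantCoeff_zero fun i => (ha i).1
  refine ⟨constantCoeff_subst_eq_zero hsa (fun i => (ha i).1) hG.1, ?_⟩
  have key : (fun i => MvPowerSeries.subst (fs π q) (a i)) = fun i => MvPowerSeries.subst a (fs π q i) := funext fun i => by
    rw [(ha i).2, one_smul, fs, MvPowerSeries.subst_add hsa, MvPowerSeries.subst_smul hsa, MvPowerSeries.subst_pow hsa,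
      MvPowerSeries.subst_X hsa]
  rw [subst_comp_subst_apply hsa (hasSubst_fs hq), key, ← subst_comp_subst_apply (hasSubst_fs hq) hsa, hG.2,
    MvPowerSeries.subst_add hsa, MvPowerSeries.subst_smul hsa, MvPowerSeries.subst_smul hsa, MvPowerSeries.subst_pow hsa]

theorem lin_subst {G : MvPowerSeries σ O} [Fintype σ] (hG : constantCoeff G = 0) {a : σ → MvPowerSeries τ O}
    (ha : ∀ i, constantCoeff (a i) = 0) (t : τ) :
    lin (MvPowerSeries.subst a G) t = ∑ i, lin G i * lin (a i) t := by
  classical
  show coeff (single t 1) (MvPowerSeries.subst a G) = _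
  rw [coeff_subst (hasSubst_of_constantCoeff_zero ha), finsum_eq_sum_of_support_subset (s := Finset.univ.image fun i : σ => single i 1)]
  · rw [Finset.sum_image fun i _ j _ h => (Finsupp.single_left_injective one_ne_zero h)]
    exact Finset.sum_congr rfl fun i _ => by simp [lin]
  · intro d hd
    simp only [Function.mem_support] at hd
    simp only [Finset.coe_image, Finset.coe_univ, Set.image_univ, Set.mem_range]
    rcases Nat.lt_or_ge (degree d) 2 with h | h
    · rcases Nat.eq_zero_or_pos (degree d) with h0 | h0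
      · rw [(Finsupp.degree_eq_zero_iff d).mp h0, coeff_zero_eq_constantCoeff_apply, hG] at hd
        exact absurd (zero_smul _ _) hd
      · obtain ⟨i, hi⟩ := eq_single_of_degree_one (show degree d = 1 by omega)
        exact ⟨i, hi.symm⟩
    · refine absurd ?_ hd
      suffices hz : coeff (single t 1) (d.prod fun s e => a s ^ e) = 0 by rw [hz, smul_zero]
      rw [Finsupp.prod]
      refine coeff_of_lt_order (lt_of_lt_of_le ?_ ((Finset.sum_le_sum (f := fun i => ((d i : ℕ) : ℕ∞)) fun i _ =>
        le_order_pow_of_constantCoeff_eq_zero _ (ha i)).trans (le_order_prod _ _)))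
      rw [degree_single, ← Nat.cast_sum, ← Finsupp.degree_apply]
      exact_mod_cast (show 1 < degree d by omega)

theorem map_sol {K : Type u} [CommRing K] (φ : O →+* K) (hq : q ≠ 0) {G : MvPowerSeries σ O} (hG : Sol π q c G) :
    Sol (φ π) q (φ c) (MvPowerSeries.map φ G) := by
  refine ⟨by rw [MvPowerSeries.constantCoeff_map, hG.1, map_zero], ?_⟩
  have hfs : (fun i => MvPowerSeries.map φ (fs π q i)) = (fs (φ π) q : σ → MvPowerSeries σ K) :=
    funext fun i => by simp [fs, smul_eq_C_mul]
  rw [← hfs, ← map_subst (hasSubst_fs hq), hG.2]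
  simp [smul_eq_C_mul]

end Groth.Agent.LubinTate8
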