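import Groth.Agent.LubinTate8.Core

set_option autoImplicit false
set_option linter.style.haveILetI false
set_option linter.unusedSectionVars false
universe u v

namespace Groth.Agent.LubinTate8

open MvPowerSeries Finsupp

variable {O : Type u} [CommRing O] [IsDomain O] [IsDiscreteValuationRing O]
  [Finite (IsLocalRing.ResidueField O)] {π : O} {σ : Type v} [Finite σ]

local notation "q" => Nat.card (IsLocalRing.ResidueField O)

theorem two_le_q : 2 ≤ q := Finite.one_lt_card

theorem isUnit_one_sub_pow (hπ : Irreducible π) {d : ℕ} (hd : 1 ≤ d) : IsUnit (π ^ d - 1) := by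
  have h : π ^ d ∈ IsLocalRing.maximalIdeal O :=
    Ideal.pow_mem_of_mem _ ((IsLocalRing.mem_maximalIdeal _).mpr hπ.not_isUnit) d hd
  rw [← neg_sub]
  exact (IsLocalRing.isUnit_one_sub_self_of_mem_nonunits _ ((IsLocalRing.mem_maximalIdeal _).mp h)).neg

theorem pow_sub_ne (hπ : Irreducible π) (d : ℕ) (hd : 2 ≤ d) : π ^ d - π ≠ 0 := by
  obtain ⟨k, rfl⟩ := Nat.exists_eq_succ_of_ne_zero (show d ≠ 0 by omega)
  rw [pow_succ, show π ^ k * π - π = π * (π ^ k - 1) by ring]
  exact mul_ne_zero hπ.ne_zero (isUnit_one_sub_pow hπ (by omega)).ne_zero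

theorem dvd_defect (hπ : Irreducible π) {G : MvPowerSeries σ O} (_hG : constantCoeff G = 0) (e : σ →₀ ℕ)
    (he : 2 ≤ degree e) : (π ^ degree e - π) ∣ coeff e (defect π q 1 G) := by
  classical
  have hq := two_le_q (O := O)
  haveI := Fintype.ofFinite (IsLocalRing.ResidueField O)
  let r := IsLocalRing.residue O
  have hπ0 : r π = 0 := by
    rw [IsLocalRing.residue_eq_zero_iff]; exact (IsLocalRing.mem_maximalIdeal _).mpr hπ.not_isUnit
  obtain ⟨p, hp⟩ := CharP.exists (IsLocalRing.ResidueField O)
  haveI := hp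
  obtain ⟨n, hp', hn⟩ := FiniteField.card (IsLocalRing.ResidueField O) p
  haveI : Fact p.Prime := ⟨hp'⟩
  haveI : ExpChar (IsLocalRing.ResidueField O) p := .prime hp'
  have hqn : q = p ^ (n : ℕ) := by rw [Nat.card_eq_fintype_card]; exact hn
  have hid : iterateFrobenius (IsLocalRing.ResidueField O) p n = RingHom.id _ := RingHom.ext fun x => by
    rw [iterateFrobenius_def, ← hn, FiniteField.pow_card]; rfl
  have hmap : MvPowerSeries.map r (defect π q 1 G) = 0 := by
    have hfs : (fun i => MvPowerSeries.map r (fs π q i)) = fun i : σ => (X i : MvPowerSeries σ (IsLocalRing.ResidueField O)) ^ q :=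
      funext fun i => by simp [fs, smul_eq_C_mul, hπ0]
    rw [defect, map_sub, map_sub, map_subst (hasSubst_fs (by omega)), hfs, smul_eq_C_mul, smul_eq_C_mul, map_mul,
      map_mul, MvPowerSeries.map_C, MvPowerSeries.map_C, hπ0, map_one, map_zero, zero_mul, sub_zero, map_one, one_mul,
      map_pow]
    have := MvPowerSeries.map_iterateFrobenius_expand p hp'.ne_zero (MvPowerSeries.map r G) n
    rw [hid, MvPowerSeries.map_id] at this
    simp only [RingHom.id_apply, MvPowerSeries.expand, coe_substAlgHom] at this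
    rw [sub_eq_zero, hqn, this]
  have hmem : coeff e (defect π q 1 G) ∈ IsLocalRing.maximalIdeal O := by
    rw [← IsLocalRing.residue_eq_zero_iff, ← MvPowerSeries.coeff_map, hmap, map_zero]
  rw [hπ.maximalIdeal_eq, Ideal.mem_span_singleton] at hmem
  obtain ⟨k, hk⟩ := Nat.exists_eq_succ_of_ne_zero (show degree e ≠ 0 by omega)
  rw [hk, pow_succ, show π ^ k * π - π = π * (π ^ k - 1) by ring,
    IsUnit.mul_right_dvd (isUnit_one_sub_pow hπ (by omega))]
  exact hmem

theorem exists_lt (hπ : Irreducible π) (l : σ → O) :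
    ∃ G : MvPowerSeries σ O, Sol π q 1 G ∧ ∀ i, lin G i = l i :=
  exists_sol two_le_q (fun _ hG e he => dvd_defect hπ hG e he) l

theorem unique_lt (hπ : Irreducible π) {G G' : MvPowerSeries σ O} (hG : Sol π q 1 G) (hG' : Sol π q 1 G')
    (hlin : ∀ i, lin G i = lin G' i) : G' = G :=
  unique two_le_q (pow_sub_ne hπ) hG hG' hlin

/-- Translation of the equation used in the statements. -/
theorem subst_f {f : PowerSeries O} (hf : f = π • PowerSeries.X + PowerSeries.X ^ q) {G : MvPowerSeries σ O}
    (hG : constantCoeff G = 0) : PowerSeries.subst G f = π • G + (1 : O) • G ^ q := by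
  have hs : PowerSeries.HasSubst G := PowerSeries.HasSubst.of_constantCoeff_zero hG
  rw [hf, PowerSeries.subst_add hs, PowerSeries.subst_smul hs, PowerSeries.subst_pow hs, PowerSeries.subst_X hs, one_smul]

theorem subst_X_f {f : PowerSeries O} (hf : f = π • PowerSeries.X + PowerSeries.X ^ q) :
    (fun i : σ => PowerSeries.subst (MvPowerSeries.X i : MvPowerSeries σ O) f) = fs π q :=
  funext fun i => by rw [subst_f hf (constantCoeff_X i), one_smul]; rfl

theorem f_eq_fs {f : PowerSeries O} (hf : f = π • PowerSeries.X + PowerSeries.X ^ q) :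
    (fun _ : Unit => f) = (fs π q : Unit → MvPowerSeries Unit O) := funext fun _ => hf

theorem sol_iff {f : PowerSeries O} (hf : f = π • PowerSeries.X + PowerSeries.X ^ q) (G : MvPowerSeries σ O)
    (hG : constantCoeff G = 0) :
    Sol π q 1 G ↔ PowerSeries.subst G f =
      MvPowerSeries.subst (fun i : σ => PowerSeries.subst (MvPowerSeries.X i : MvPowerSeries σ O) f) G := by
  rw [subst_f hf hG, subst_X_f hf]
  exact ⟨fun h => h.2.symm, fun h => ⟨hG, h.symm⟩⟩

theorem sol_iff_series {f : PowerSeries O} (hf : f = π • PowerSeries.X + PowerSeries.X ^ q) (g : PowerSeries O)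
    (hg : g.constantCoeff = 0) :
    Sol π q 1 (g : MvPowerSeries Unit O) ↔ PowerSeries.subst g f = PowerSeries.subst f g := by
  rw [PowerSeries.subst_def f g, f_eq_fs hf, subst_f hf (G := (g : MvPowerSeries Unit O)) hg]
  exact ⟨fun h => h.2.symm, fun h => ⟨hg, h.symm⟩⟩

omit [IsDomain O] [IsDiscreteValuationRing O] [Finite (IsLocalRing.ResidueField O)] in
theorem coeff_one_eq {R : Type u} [CommRing R] (g : PowerSeries R) : g.coeff 1 = lin (g : MvPowerSeries Unit R) () := rfl

end Groth.Agent.LubinTate8
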