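import Groth.Agent.LubinTate8.Group

set_option autoImplicit false
set_option linter.style.haveILetI false
set_option linter.unusedSectionVars false
set_option linter.unusedSimpArgs false
universe u

namespace Groth.Agent.LubinTate8

open MvPowerSeries Finsupp

variable {O : Type u} [CommRing O] [IsDomain O] [IsDiscreteValuationRing O]
  [Finite (IsLocalRing.ResidueField O)] {π : O}

local notation "q" => Nat.card (IsLocalRing.ResidueField O)

theorem sol_pair {σ : Type} [Finite σ] {F : MvPowerSeries (Fin 2) O} (hF : Sol π q 1 F)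
    {a b : MvPowerSeries σ O} (ha : Sol π q 1 a) (hb : Sol π q 1 b) : Sol π q 1 (MvPowerSeries.subst ![a, b] F) :=
  sol_subst (by have := two_le_q (O := O); omega) hF fun i => by fin_cases i <;> assumption

theorem lin_pair {σ : Type} [Finite σ] {R : Type u} [CommRing R] {F : MvPowerSeries (Fin 2) R}
    (hF : constantCoeff F = 0) {a b : MvPowerSeries σ R} (ha : constantCoeff a = 0) (hb : constantCoeff b = 0) (t : σ) :
    lin (MvPowerSeries.subst ![a, b] F) t = lin F 0 * lin a t + lin F 1 * lin b t := by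
  rw [lin_subst hF (fun i => by fin_cases i <;> assumption) t, Fin.sum_univ_two]
  rfl

theorem lin_X {σ : Type} [DecidableEq σ] {R : Type u} [CommRing R] (i t : σ) :
    lin (X i : MvPowerSeries σ R) t = if t = i then 1 else 0 := by
  simp [lin, coeff_X, Finsupp.single_eq_single_iff]

theorem exists_formalGroup (hπ : Irreducible π) {f : PowerSeries O} (hf : f = π • PowerSeries.X + PowerSeries.X ^ q) :
    ∃ F : FormalGroup O, F.IsComm ∧
      PowerSeries.subst F.toPowerSeries f =
        MvPowerSeries.subst (fun i : Fin 2 => PowerSeries.subst (MvPowerSeries.X i : MvPowerSeries (Fin 2) O) f) F.toPowerSeries ∧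
      ∀ G : MvPowerSeries (Fin 2) O, G.constantCoeff = 0 → G.coeff (Finsupp.single 0 1) = 1 →
        G.coeff (Finsupp.single 1 1) = 1 →
        PowerSeries.subst G f =
        MvPowerSeries.subst (fun i : Fin 2 => PowerSeries.subst (MvPowerSeries.X i : MvPowerSeries (Fin 2) O) f) G →
        G = F.toPowerSeries := by
  classical
  have hq : q ≠ 0 := by have := two_le_q (O := O); omega
  obtain ⟨F, hF, hFl⟩ := exists_lt (σ := Fin 2) hπ (fun _ => (1 : O))
  have hX : ∀ i : Fin 3, Sol π q 1 (X i : MvPowerSeries (Fin 3) O) := sol_X hq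
  have hassoc : MvPowerSeries.subst ![MvPowerSeries.subst ![(X (0 : Fin 3) : MvPowerSeries (Fin 3) O), X 1] F, (X 2 : MvPowerSeries (Fin 3) O)] F =
      MvPowerSeries.subst ![(X (0 : Fin 3) : MvPowerSeries (Fin 3) O), MvPowerSeries.subst ![(X 1 : MvPowerSeries (Fin 3) O), X 2] F] F := by
    have h01 := sol_pair hF (hX 0) (hX 1)
    have h12 := sol_pair hF (hX 1) (hX 2)
    refine unique_lt hπ (sol_pair hF (hX 0) h12) (sol_pair hF h01 (hX 2)) fun t => ?_
    rw [lin_pair hF.1 (hX 0).1 h12.1, lin_pair hF.1 h01.1 (hX 2).1, lin_pair hF.1 (hX 1).1 (hX 2).1,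
      lin_pair hF.1 (hX 0).1 (hX 1).1, hFl 0, hFl 1]
    ring
  refine ⟨⟨F, hF.1, hFl 0, hFl 1, hassoc⟩, ⟨?_⟩, (sol_iff hf F hF.1).mp hF, fun G h0 h1 h2 hG => ?_⟩
  · refine (unique_lt hπ hF (sol_pair hF (sol_X hq (1 : Fin 2)) (sol_X hq (0 : Fin 2))) fun t => ?_).symm
    rw [lin_pair hF.1 (constantCoeff_X 1) (constantCoeff_X 0), hFl t, hFl 0, hFl 1, lin_X, lin_X]
    fin_cases t <;> simp
  · refine unique_lt hπ hF ((sol_iff hf G h0).mpr hG) fun i => ?_
    fin_cases i
    · exact (hFl 0).trans h1.symm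
    · exact (hFl 1).trans h2.symm

theorem existsUnique_endo (hπ : Irreducible π) {f : PowerSeries O} (hf : f = π • PowerSeries.X + PowerSeries.X ^ q) (α : O) :
    ∃! g : PowerSeries O, g.constantCoeff = 0 ∧ g.coeff 1 = α ∧ PowerSeries.subst g f = PowerSeries.subst f g := by
  obtain ⟨g, hg, hgl⟩ := exists_lt (σ := Unit) hπ (fun _ => α)
  refine ⟨g, ⟨hg.1, (coeff_one_eq (g : PowerSeries O)).trans (hgl ()), (sol_iff_series hf g hg.1).mp hg⟩, ?_⟩
  rintro g' ⟨h0, h1, h2⟩
  exact unique_lt hπ hg ((sol_iff_series hf g' h0).mpr h2) fun _ => (hgl ()).trans ((coeff_one_eq g').symm.trans h1).symm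

theorem sol_formalGroup {f : PowerSeries O} (hf : f = π • PowerSeries.X + PowerSeries.X ^ q) (F : FormalGroup O)
    (hF : PowerSeries.subst F.toPowerSeries f =
        MvPowerSeries.subst (fun i : Fin 2 => PowerSeries.subst (MvPowerSeries.X i : MvPowerSeries (Fin 2) O) f) F.toPowerSeries) :
    Sol π q 1 F.toPowerSeries := (sol_iff hf _ F.zero_constantCoeff).mpr hF

theorem endo_comm (hπ : Irreducible π) {f : PowerSeries O} (hf : f = π • PowerSeries.X + PowerSeries.X ^ q) (F : FormalGroup O)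
    (hF : PowerSeries.subst F.toPowerSeries f =
        MvPowerSeries.subst (fun i : Fin 2 => PowerSeries.subst (MvPowerSeries.X i : MvPowerSeries (Fin 2) O) f) F.toPowerSeries)
    (g : PowerSeries O) (hg0 : g.constantCoeff = 0) (hgf : PowerSeries.subst g f = PowerSeries.subst f g) :
    PowerSeries.subst F.toPowerSeries g =
      MvPowerSeries.subst (fun i : Fin 2 => PowerSeries.subst (MvPowerSeries.X i : MvPowerSeries (Fin 2) O) g)
        F.toPowerSeries := by
  classical
  have hq : q ≠ 0 := by have := two_le_q (O := O); omega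
  have hFs := sol_formalGroup hf F hF
  have hgs : Sol π q 1 (g : MvPowerSeries Unit O) := (sol_iff_series hf g hg0).mpr hgf
  have ha : ∀ i : Fin 2, Sol π q 1 (MvPowerSeries.subst (fun _ : Unit => (X i : MvPowerSeries (Fin 2) O)) (g : MvPowerSeries Unit O)) :=
    fun i => sol_subst hq hgs fun _ => sol_X hq i
  simp only [PowerSeries.subst_def]
  refine unique_lt hπ (sol_subst hq hFs ha) (sol_subst hq hgs fun _ => hFs) fun t => ?_
  rw [lin_subst hFs.1 (fun i => (ha i).1) t, lin_subst hg0 (fun _ => hFs.1) t, Fin.sum_univ_two,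
    lin_subst hg0 (fun _ => constantCoeff_X 0) t, lin_subst hg0 (fun _ => constantCoeff_X 1) t]
  simp only [Finset.univ_unique, Finset.sum_singleton, lin_X]
  have h0 : lin F.toPowerSeries 0 = 1 := F.lin_coeff_X
  have h1 : lin F.toPowerSeries 1 = 1 := F.lin_coeff_Y
  fin_cases t <;> simp [h0, h1]

theorem endo_ring (hπ : Irreducible π) {f : PowerSeries O} (hf : f = π • PowerSeries.X + PowerSeries.X ^ q) (F : FormalGroup O)
    (hF : PowerSeries.subst F.toPowerSeries f =
        MvPowerSeries.subst (fun i : Fin 2 => PowerSeries.subst (MvPowerSeries.X i : MvPowerSeries (Fin 2) O) f)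
          F.toPowerSeries)
    (α β : O) (gα gβ gαβ gs : PowerSeries O)
    (hα0 : gα.constantCoeff = 0) (hα1 : gα.coeff 1 = α) (hαf : PowerSeries.subst gα f = PowerSeries.subst f gα)
    (hβ0 : gβ.constantCoeff = 0) (hβ1 : gβ.coeff 1 = β) (hβf : PowerSeries.subst gβ f = PowerSeries.subst f gβ)
    (hαβ0 : gαβ.constantCoeff = 0) (hαβ1 : gαβ.coeff 1 = α * β)
    (hαβf : PowerSeries.subst gαβ f = PowerSeries.subst f gαβ)
    (hs0 : gs.constantCoeff = 0) (hs1 : gs.coeff 1 = α + β) (hsf : PowerSeries.subst gs f = PowerSeries.subst f gs) :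
    PowerSeries.subst gβ gα = gαβ ∧ F.toPowerSeries.subst ![gα, gβ] = gs := by
  have hq : q ≠ 0 := by have := two_le_q (O := O); omega
  have hFs := sol_formalGroup hf F hF
  have sa := (sol_iff_series hf gα hα0).mpr hαf
  have sb := (sol_iff_series hf gβ hβ0).mpr hβf
  rw [coeff_one_eq] at hα1 hβ1 hαβ1 hs1
  constructor
  · refine unique_lt hπ ((sol_iff_series hf gαβ hαβ0).mpr hαβf) (sol_subst hq sa fun _ => sb) fun t => ?_
    rw [PowerSeries.subst_def, lin_subst hα0 (fun _ => hβ0) t]
    simp only [Finset.univ_unique, Finset.sum_singleton]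
    rw [show t = () from Subsingleton.elim _ _]
    exact hαβ1.trans (by rw [← hα1, ← hβ1])
  · refine unique_lt hπ ((sol_iff_series hf gs hs0).mpr hsf) (sol_pair hFs sa sb) fun t => ?_
    rw [lin_pair hFs.1 sa.1 sb.1, show t = () from Subsingleton.elim _ _, hs1, hα1, hβ1,
      show lin F.toPowerSeries 0 = 1 from F.lin_coeff_X, show lin F.toPowerSeries 1 = 1 from F.lin_coeff_Y, one_mul, one_mul]

theorem exists_log (K : Type u) [Field K] [Algebra O K] [IsFractionRing O K]
    (hπ : Irreducible π) {f : PowerSeries O} (hf : f = π • PowerSeries.X + PowerSeries.X ^ q) (F : FormalGroup O)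
    (hF : PowerSeries.subst F.toPowerSeries f =
        MvPowerSeries.subst (fun i : Fin 2 => PowerSeries.subst (MvPowerSeries.X i : MvPowerSeries (Fin 2) O) f) F.toPowerSeries) :
    ∃ ℓ : PowerSeries K, (ℓ.constantCoeff = 0 ∧ ℓ.coeff 1 = 1 ∧
      PowerSeries.subst (PowerSeries.map (algebraMap O K) f) ℓ = algebraMap O K π • ℓ) ∧
      (∀ ℓ' : PowerSeries K, ℓ'.constantCoeff = 0 → ℓ'.coeff 1 = 1 →
        PowerSeries.subst (PowerSeries.map (algebraMap O K) f) ℓ' = algebraMap O K π • ℓ' → ℓ' = ℓ) ∧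
      PowerSeries.subst ((F.toPowerSeries).map (algebraMap O K)) ℓ =
        PowerSeries.subst (MvPowerSeries.X (0 : Fin 2) : MvPowerSeries (Fin 2) K) ℓ +
          PowerSeries.subst (MvPowerSeries.X (1 : Fin 2) : MvPowerSeries (Fin 2) K) ℓ ∧
      (∀ (α : O) (g : PowerSeries O), g.constantCoeff = 0 → g.coeff 1 = α →
        PowerSeries.subst g f = PowerSeries.subst f g →
        PowerSeries.subst (PowerSeries.map (algebraMap O K) g) ℓ = algebraMap O K α • ℓ) := by
  classical
  have hq2 := two_le_q (O := O)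
  have hq : q ≠ 0 := by omega
  let φ := algebraMap O K
  have hne : ∀ d, 2 ≤ d → (φ π) ^ d - φ π ≠ 0 := fun d hd => by
    rw [← map_pow, ← map_sub]
    exact (map_ne_zero_iff φ (IsFractionRing.injective O K)).mpr (pow_sub_ne hπ d hd)
  have huniq : ∀ {σ : Type} [Finite σ] {G G' : MvPowerSeries σ K}, Sol (φ π) q 0 G → Sol (φ π) q 0 G' →
      (∀ i, lin G i = lin G' i) → G' = G := fun {σ} _ {G G'} h h' hl => unique hq2 hne h h' hl
  have hfK : (fun _ : Unit => PowerSeries.map φ f) = (fs (φ π) q : Unit → MvPowerSeries Unit K) := funext fun u => by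
    show MvPowerSeries.map φ (f : MvPowerSeries Unit O) = _
    rw [show (f : MvPowerSeries Unit O) = fs π q u from congrFun (f_eq_fs hf) u]
    simp [fs, smul_eq_C_mul]
  obtain ⟨ℓ, hℓ, hℓl⟩ := exists_sol (O := K) (σ := Unit) (π := φ π) (c := 0) hq2
    (fun G _ e he => (hne _ he).isUnit.dvd) (fun _ => 1)
  have hiff : ∀ m : PowerSeries K, m.constantCoeff = 0 → (Sol (φ π) q 0 (m : MvPowerSeries Unit K) ↔
      PowerSeries.subst (PowerSeries.map φ f) m = φ π • m) := fun m hm => by
    rw [PowerSeries.subst_def, hfK]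
    constructor
    · intro h; rw [h.2, zero_smul, add_zero]
    · intro h; exact ⟨hm, by rw [h, zero_smul, add_zero]⟩
  have hFK : Sol (φ π) q (1 : K) (MvPowerSeries.map φ F.toPowerSeries) := by
    simpa using map_sol φ hq (sol_formalGroup hf F hF)
  refine ⟨ℓ, ⟨hℓ.1, (coeff_one_eq (ℓ : PowerSeries K)).trans (hℓl ()), (hiff ℓ hℓ.1).mp hℓ⟩, fun ℓ' h0 h1 h2 => ?_, ?_, fun α g hg0 hg1 hgf => ?_⟩
  · exact huniq hℓ ((hiff ℓ' h0).mpr h2) fun _ => (hℓl ()).trans ((coeff_one_eq ℓ').symm.trans h1).symm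
  · have hX : ∀ i : Fin 2, Sol (φ π) q (0 : K) (MvPowerSeries.subst (fun _ : Unit => (X i : MvPowerSeries (Fin 2) K)) ℓ) :=
      fun i => sol_subst hq hℓ fun _ => sol_X hq i
    have hadd : Sol (φ π) q (0 : K) (MvPowerSeries.subst (fun _ : Unit => (X 0 : MvPowerSeries (Fin 2) K)) ℓ +
        MvPowerSeries.subst (fun _ : Unit => (X 1 : MvPowerSeries (Fin 2) K)) ℓ) := by
      refine ⟨by rw [map_add, (hX 0).1, (hX 1).1, add_zero], ?_⟩
      rw [MvPowerSeries.subst_add (hasSubst_fs hq), (hX 0).2, (hX 1).2]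
      simp only [zero_smul, add_zero, smul_add]
    simp only [PowerSeries.subst_def]
    refine huniq hadd (sol_subst hq hℓ fun _ => hFK) fun t => ?_
    rw [lin_subst hℓ.1 (fun _ => hFK.1) t]
    unfold lin
    rw [map_add]
    show lin _ t + lin _ t = _
    rw [lin_subst hℓ.1 (fun _ => constantCoeff_X 0) t, lin_subst hℓ.1 (fun _ => constantCoeff_X 1) t]
    simp only [Finset.univ_unique, Finset.sum_singleton, lin_X, hℓl, one_mul, coeff_map]
    fin_cases t
    · simp [φ, F.lin_coeff_X, hℓl, lin, coeff_map]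
      exact (hℓl ()).symm
    · simp [φ, F.lin_coeff_Y, hℓl, lin, coeff_map]
      exact (hℓl ()).symm
  · have hgK : Sol (φ π) q (1 : K) (MvPowerSeries.map φ (g : MvPowerSeries Unit O)) := by
      simpa using map_sol φ hq ((sol_iff_series hf g hg0).mpr hgf)
    have hsm : Sol (φ π) q (0 : K) (φ α • (ℓ : MvPowerSeries Unit K)) := by
      refine ⟨by rw [smul_eq_C_mul, map_mul, hℓ.1, mul_zero], ?_⟩
      rw [MvPowerSeries.subst_smul (hasSubst_fs hq), hℓ.2]
      simp only [zero_smul, add_zero, smul_comm (φ π) (φ α)]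
    rw [PowerSeries.subst_def]
    refine huniq hsm (sol_subst hq hℓ fun _ => hgK) fun t => ?_
    refine Eq.trans ?_ (lin_subst hℓ.1 (fun _ => hgK.1) t).symm
    rw [show t = () from Subsingleton.elim _ _]
    rw [coeff_one_eq] at hg1
    simp only [Finset.univ_unique, Finset.sum_singleton]
    show coeff (single () 1) (φ α • (ℓ : MvPowerSeries Unit K)) = lin ℓ default * coeff (single () 1) (MvPowerSeries.map φ (g : MvPowerSeries Unit O))
    rw [map_smul, coeff_map, hℓl, one_mul, show coeff (single () 1) (g : MvPowerSeries Unit O) = α from hg1,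
      show coeff (single () 1) (ℓ : MvPowerSeries Unit K) = 1 from hℓl (), smul_eq_mul, mul_one]

end Groth.Agent.LubinTate8
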